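import Cfsg.Agent.H43.InvSub.Stmts
import Cfsg.Agent.CompLayer

/-!
In a minimal counterexample the maximal subgroups attached to the involutions have nontrivial
2-core.
-/

set_option autoImplicit false
set_option linter.style.haveILetI false

namespace H63.InvSub

open Cfsg Cfsg.Comp H43.InvSub
open scoped commutatorElement

universe u

section General

variable {A : Type u} [Group A] [Finite A]

theorem pCore_map_equiv {A' : Type*} [Group A'] [Finite A'] (p : ℕ) (e : A ≃* A') :
    (pCore p A).map e.toMonoidHom = pCore p A' := by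
  refine le_antisymm
    (le_pCore ((pCore_normal p A).map _ e.surjective) ((pCore_isPGroup p).map _)) fun x hx => ?_
  have h : (pCore p A').map e.symm.toMonoidHom ≤ pCore p A :=
    le_pCore ((pCore_normal p A').map _ e.symm.surjective) ((pCore_isPGroup p).map _)
  exact ⟨e.symm x, h ⟨x, hx, rfl⟩, e.apply_symm_apply x⟩

theorem pCore_quot_pCore (p : ℕ) : pCore p (A ⧸ pCore p A) = ⊥ := by
  set π := QuotientGroup.mk' (pCore p A)
  have hπ : Function.Surjective π := QuotientGroup.mk'_surjective _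
  set X := (pCore p (A ⧸ pCore p A)).comap π
  have hX : IsPGroup p X := (pCore_isPGroup p).comap_of_ker_isPGroup π
    (by rw [QuotientGroup.ker_mk']; exact pCore_isPGroup p)
  have hle : X ≤ pCore p A := le_pCore inferInstance hX
  rw [← Subgroup.map_comap_eq_self_of_surjective hπ (pCore p (A ⧸ pCore p A)),
    Subgroup.map_eq_bot_iff, QuotientGroup.ker_mk']
  exact hle

/-- An element which commutes with the image of an involution lifts into its centraliser. -/
theorem exists_lift_centralizer (e : A) (he : e * e = 1) (P : Subgroup A) [P.Normal]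
    (hP : ¬ 2 ∣ Nat.card P) (a : A)
    (ha : Commute (QuotientGroup.mk' P a) (QuotientGroup.mk' P e)) :
    ∃ v : A, v * e = e * v ∧ QuotientGroup.mk' P v = QuotientGroup.mk' P a := by
  haveI : Fact (Nat.Prime 2) := ⟨Nat.prime_two⟩
  have hE : IsPGroup 2 (Subgroup.zpowers e) := by
    rintro ⟨_, n, rfl⟩
    exact ⟨1, Subtype.ext (show (e ^ n) ^ (2 ^ 1) = 1 by
      rw [pow_one, ← zpow_natCast, zpow_comm, zpow_natCast, pow_two, he, one_zpow])⟩
  obtain ⟨d, hd, hdc⟩ := exists_mul_mem_centralizer hE le_normalizer_of_normal hP a (by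
    intro z hz
    obtain ⟨n, rfl⟩ := hz
    have hc : Commute (QuotientGroup.mk' P (e ^ n)) (QuotientGroup.mk' P a) := by
      rw [map_zpow]
      exact (ha.symm).zpow_left n
    refine (QuotientGroup.eq_one_iff _).mp ?_
    show QuotientGroup.mk' P (e ^ n * a * (e ^ n)⁻¹ * a⁻¹) = 1
    rw [map_mul, map_mul, map_mul, map_inv, map_inv, hc.eq, mul_inv_cancel_right, mul_inv_cancel])
  refine ⟨d * a, (Subgroup.mem_centralizer_iff.mp hdc e (Subgroup.mem_zpowers e)).symm, ?_⟩
  rw [map_mul, show QuotientGroup.mk' P d = 1 from (QuotientGroup.eq_one_iff d).mpr hd, one_mul]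

variable (hL : LiftStmt.{u}) (hC : CoverStmt.{u})

include hL hC in
/-- The `l`-core of a subgroup containing the elements inverted and the elements centralised by
an involution, and the generalised Fitting subgroup. -/
theorem pCore_eq_of_le (hA : SubT A) (hA' : ∀ (P : Subgroup A) [P.Normal], SubT (A ⧸ P))
    (e : A) (he : orderOf e = 2) (V : Subgroup A) (hinv : invSet e ⊆ V)
    (hcent : Subgroup.centralizer ({e} : Set A) ≤ V) (hF : generalizedFittingSubgroup A ≤ V)
    (l : ℕ) [hl : Fact l.Prime] (hl2 : l ≠ 2) :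
    (pCore l ↥V).map V.subtype = pCore l A := by
  haveI : Fact (Nat.Prime 2) := ⟨Nat.prime_two⟩
  have hee : e * e = 1 := by
    have := pow_orderOf_eq_one e
    rwa [he, pow_two] at this
  have hei : e⁻¹ = e := inv_eq_of_mul_eq_one_right hee
  set P := pCore l A with hPdef
  set P0 := (pCore l ↥V).map V.subtype with hP0def
  have hPV : P ≤ V := (pCore_le_fitting l).trans (fitting_le_fStar.trans hF)
  have hP0V : P0 ≤ V := Subgroup.map_subtype_le _
  have hP0p : IsPGroup l P0 := (pCore_isPGroup l).map _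
  have hPP0 : P ≤ P0 := by
    intro x hx
    refine ⟨⟨x, hPV hx⟩, ?_, rfl⟩
    exact le_pCore (N := P.subgroupOf V) inferInstance
      ((pCore_isPGroup l).of_equiv (Subgroup.subgroupOfEquivOfLe hPV).symm) hx
  have hVP0 : V ≤ Subgroup.normalizer (P0 : Set A) :=
    Subgroup.le_normalizer.trans (le_normalizer_map_subtype _)
  have heV : e ∈ V := hcent (Subgroup.mem_centralizer_singleton_iff.mpr rfl)
  have hodd : ∀ x : A, x ∈ P0 → Odd (orderOf x) := fun x hx => by
    obtain ⟨k, hk⟩ := hP0p ⟨x, hx⟩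
    have hdvd : orderOf x ∣ l ^ k := orderOf_dvd_of_pow_eq_one (congrArg Subtype.val hk)
    exact ((hl.out.odd_of_ne_two hl2).pow).of_dvd_nat hdvd
  -- commutators with `e` fall into `P`
  have hX : (tSub e).IsSubnormal := hA e he
  have hXV : tSub e ≤ V :=
    (Subgroup.closure_le _).mpr (Set.insert_subset_iff.mpr ⟨heV, hinv⟩)
  have hXP0 : tSub e ⊓ P0 ≤ P := by
    refine le_pCore_of_subnormal ?_ hP0p.to_inf_right
    refine Subgroup.IsSubnormal.step _ _ inf_le_left hX ?_
    exact Subgroup.normal_subgroupOf_of_le_normalizer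
      (inf_le_normalizer Subgroup.le_normalizer (hXV.trans hVP0))
  have hcomm : ∀ y ∈ P0, y * e * y⁻¹ * e⁻¹ ∈ P := by
    intro y hy
    have hc : y * e * y⁻¹ * e⁻¹ ∈ P0 := by
      rw [show y * e * y⁻¹ * e⁻¹ = y * (e * y⁻¹ * e⁻¹) by group]
      exact mul_mem hy (conj_mem_of_le_normalizer hVP0 heV (inv_mem hy))
    refine hXP0 ⟨Subgroup.subset_closure (Set.mem_insert_of_mem _ ⟨hodd _ hc, ?_⟩), hc⟩
    simp only [mul_inv_rev, inv_inv, hei]
    calc e * (y * e * y⁻¹ * e) * e = e * y * e * y⁻¹ * (e * e) := by group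
      _ = e * (y * (e * y⁻¹)) := by rw [hee]; group
  have hPodd : ¬ 2 ∣ Nat.card P := by
    obtain ⟨k, hk⟩ := IsPGroup.iff_card.mp (pCore_isPGroup (G := A) l)
    rw [hk]
    exact fun h => hl2 ((Nat.prime_dvd_prime_iff_eq Nat.prime_two hl.out).mp
      (Nat.prime_two.dvd_of_dvd_pow h)).symm
  -- pass to `A ⧸ P`
  set f := QuotientGroup.mk' P with hf
  have hfs : Function.Surjective f := QuotientGroup.mk'_surjective _
  set Q := pCore 2 (A ⧸ P) with hQ
  set T := P0.map f with hT
  have hTp : IsPGroup l T := hP0p.map f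
  have hVT : V.map f ≤ Subgroup.normalizer (T : Set (A ⧸ P)) := by
    rw [Subgroup.le_normalizer_iff]
    rintro _ ⟨v, hv, rfl⟩ _ ⟨y, hy, rfl⟩
    exact ⟨v * y * v⁻¹, conj_mem_of_le_normalizer hVP0 hv hy, by simp only [map_mul, map_inv]⟩
  have hlift : ∀ q : A ⧸ P, Commute q (f e) → ∃ v ∈ V, f v = q := by
    intro q hq
    obtain ⟨a, rfl⟩ := hfs q
    obtain ⟨v, hv, hva⟩ := exists_lift_centralizer e hee P hPodd a hq
    exact ⟨v, hcent (Subgroup.mem_centralizer_singleton_iff.mpr hv), hva⟩
  have hQT : Q ≤ Subgroup.centralizer (T : Set (A ⧸ P)) := by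
    intro q hq
    refine Subgroup.mem_centralizer_iff.mpr ?_
    rintro _ ⟨y, hy, rfl⟩
    have hye : f y * f e = f e * f y := by
      have h1 : f (y * e * y⁻¹ * e⁻¹) = 1 := (QuotientGroup.eq_one_iff _).mpr (hcomm y hy)
      simp only [map_mul, map_inv] at h1
      rwa [mul_inv_eq_one, mul_inv_eq_iff_eq_mul] at h1
    have hyo : ¬ 2 ∣ orderOf (f y) := fun h =>
      (Nat.not_even_iff_odd.mpr (hodd y hy))
        (even_iff_two_dvd.mpr (h.trans (orderOf_map_dvd f y)))
    refine pxq_lemma (P := Subgroup.zpowers (f e)) (p := 2) ?_ hyo ?_ Q (pCore_isPGroup 2)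
      le_normalizer_of_normal (le_normalizer_of_normal (Subgroup.mem_zpowers (f y))) ?_ q hq
    · rintro ⟨_, n, rfl⟩
      exact ⟨1, Subtype.ext (show ((f e) ^ n) ^ (2 ^ 1) = 1 by
        rw [pow_one, ← zpow_natCast, zpow_comm, zpow_natCast, pow_two, ← map_mul, hee, map_one,
          one_zpow])⟩
    · rintro z ⟨n, rfl⟩
      exact ((show Commute (f y) (f e) from hye).zpow_right n).eq
    · intro r hr hrc
      obtain ⟨v, hv, rfl⟩ := hlift r
        ((Subgroup.mem_centralizer_iff.mp hrc _ (Subgroup.mem_zpowers _)).symm)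
      have h1 : f y * f v * (f y)⁻¹ * (f v)⁻¹ ∈ T ⊓ Q := by
        refine ⟨⟨y * v * y⁻¹ * v⁻¹, ?_, by simp only [map_mul, map_inv]⟩, ?_⟩
        · rw [show y * v * y⁻¹ * v⁻¹ = y * (v * y⁻¹ * v⁻¹) by group]
          exact mul_mem hy (conj_mem_of_le_normalizer hVP0 hv (inv_mem hy))
        · exact Q.mul_mem ((pCore_normal 2 _).conj_mem _ hr (f y)) (Q.inv_mem hr)
      have h2 : T ⊓ Q = ⊥ := inf_eq_bot_of_isPGroup hTp (fun hd => by
        obtain ⟨k, hk⟩ := IsPGroup.iff_card.mp (pCore_isPGroup (G := A ⧸ P) 2)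
        rw [hQ, hk] at hd
        exact hl2 ((Nat.prime_dvd_prime_iff_eq hl.out Nat.prime_two).mp
          (hl.out.dvd_of_dvd_pow hd)))
      rw [h2, Subgroup.mem_bot, mul_inv_eq_one, mul_inv_eq_iff_eq_mul] at h1
      exact h1
  have hFN : generalizedFittingSubgroup (A ⧸ P) ≤ Subgroup.normalizer (T : Set (A ⧸ P)) := by
    refine (hC (hA' P) (f e) (by rw [← map_mul, hee, map_one])).trans (sup_le ?_ ?_)
    · exact hQT.trans (Subgroup.centralizer_le_normalizer _)
    · refine ((Subgroup.closure_le _).mpr ?_).trans hVT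
      rintro x (hx | hx)
      · obtain ⟨a, ha, rfl⟩ := hL f hfs e hee x hx
        exact ⟨a, hinv ha, rfl⟩
      · obtain ⟨v, hv, rfl⟩ := hlift x (Subgroup.mem_centralizer_singleton_iff.mp hx)
        exact ⟨v, hv, rfl⟩
  set F := generalizedFittingSubgroup (A ⧸ P) with hFdef
  have hFT : F ⊓ T = ⊥ := by
    refine le_bot_iff.mp ((le_pCore_of_subnormal (p := l) ?_ hTp.to_inf_right).trans
      (pCore_quot_pCore l).le)
    exact Subgroup.IsSubnormal.step _ _ inf_le_left (inferInstance : F.Normal).isSubnormal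
      (Subgroup.normal_subgroupOf_of_le_normalizer (inf_le_normalizer Subgroup.le_normalizer hFN))
  have hFTc : ⁅F, T⁆ = ⊥ := le_bot_iff.mp (hFT ▸
    le_inf (Subgroup.commutator_le_left _ _)
      (Subgroup.le_normalizer_iff_commutator_le_right.mp hFN))
  have hT0 : T = ⊥ := by
    have h1 : T ≤ F := ((Subgroup.le_centralizer_iff.mp
      (Subgroup.commutator_eq_bot_iff_le_centralizer.mp hFTc))).trans centralizer_fStar_le
    rw [← hFT, inf_eq_right.mpr h1]
  refine le_antisymm ?_ hPP0
  rw [Subgroup.map_eq_bot_iff, QuotientGroup.ker_mk'] at hT0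
  exact hT0

/-- A subgroup containing the layer of a group with trivial Fitting subgroup has the same
layer. -/
theorem layer_eq_of_le (hF : fittingSubgroup A = ⊥) (V : Subgroup A) (h : layer A ≤ V) :
    (layer ↥V).map V.subtype = layer A := by
  refine le_antisymm (Subgroup.map_le_iff_le_comap.mpr <| layer_le_iff.mpr fun L hL => ?_) ?_
  · by_cases hK : ∃ K : Subgroup A, IsComponent K ∧ L = K.subgroupOf V
    · obtain ⟨K, hK, rfl⟩ := hK
      exact fun x hx => le_layer hK hx
    have hcomm : ⁅layer A, L.map V.subtype⁆ = ⊥ := by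
      refine commutator_layer_eq_bot fun K hK' => ?_
      have hKV : K ≤ V := (le_layer hK').trans h
      have h1 := (component_eq_or_commute (isComponent_subgroupOf hK' hKV) hL).resolve_left
        fun he => hK ⟨K, hK', he.symm⟩
      have h2 := congrArg (Subgroup.map V.subtype) h1
      rwa [Subgroup.map_commutator, Subgroup.map_subgroupOf_eq_of_le hKV, Subgroup.map_bot] at h2
    have hF' : generalizedFittingSubgroup A = layer A := by
      rw [generalizedFittingSubgroup, hF, sup_bot_eq]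
    have h3 : L.map V.subtype ≤ layer A := by
      have h4 := centralizer_fStar_le (G := A)
      rw [hF'] at h4
      exact (Subgroup.le_centralizer_iff.mp
        (Subgroup.commutator_eq_bot_iff_le_centralizer.mp hcomm)).trans h4
    exact Subgroup.map_le_iff_le_comap.mp h3
  · refine layer_le_iff.mpr fun K hK => ?_
    have hKV : K ≤ V := (le_layer hK).trans h
    exact (Subgroup.map_subgroupOf_eq_of_le hKV).ge.trans
      (Subgroup.map_mono (le_layer (isComponent_subgroupOf hK hKV)))

end General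

section Transport

variable {G : Type u} [Group G]

theorem map_subgroupOf_aux {H M : Subgroup G} (h : H ≤ M) (X : Subgroup ↥(H.subgroupOf M)) :
    (X.map (H.subgroupOf M).subtype).map M.subtype =
      (X.map (Subgroup.subgroupOfEquivOfLe h).toMonoidHom).map H.subtype := by
  rw [Subgroup.map_map, Subgroup.map_map]
  congr 1

end Transport

section Main

variable {G : Type u} [Group G] [Finite G]

theorem pCoreOf_map_conj_eq_bot (p : ℕ) {H : Subgroup G} (g : G) (h : pCoreOf p H = ⊥) :
    pCoreOf p (H.map (MulAut.conj g).toMonoidHom) = ⊥ := by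
  unfold pCoreOf at h ⊢
  rw [Subgroup.map_eq_bot_iff_of_injective _ Subtype.coe_injective] at h ⊢
  rw [← pCore_map_equiv p (Subgroup.equivMapOfInjective H (MulAut.conj g).toMonoidHom
    (MulAut.conj g).injective), h, Subgroup.map_bot]

theorem fitting_map_conj_eq_bot {H : Subgroup G} (g : G) (h : fittingSubgroup ↥H = ⊥) :
    fittingSubgroup ↥(H.map (MulAut.conj g).toMonoidHom) = ⊥ := by
  rw [fitting_eq_iSup_pCore, iSup_eq_bot] at h ⊢
  intro q
  haveI := Fact.mk q.2
  rw [← pCore_map_equiv (q : ℕ) (Subgroup.equivMapOfInjective H (MulAut.conj g).toMonoidHom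
    (MulAut.conj g).injective), h q, Subgroup.map_bot]

theorem exists_mutual (S : Sys G) :
    ∃ d ∈ S.K, ∃ e ∈ S.K, S.M d ≠ S.M e ∧ d ∈ S.M e ∧ e ∈ S.M d := by
  classical
  obtain ⟨d₀, hd₀⟩ := S.nonempty
  have hsq : ∀ x ∈ S.K, x * x = 1 := fun x hx => by
    have := pow_orderOf_eq_one x
    rwa [S.invol x hx, pow_two] at this
  have hinv : ∀ x ∈ S.K, x⁻¹ = x := fun x hx => inv_eq_of_mul_eq_one_right (hsq x hx)
  have hex : ∃ n, ∃ d ∈ S.K, ∃ e ∈ S.K, S.M d ≠ S.M e ∧ orderOf (d * e) = n := by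
    by_contra hall
    push Not at hall
    refine (S.coatom d₀ hd₀).1 (top_unique fun g _ => ?_)
    have h1 : S.M d₀ = S.M (g * d₀ * g⁻¹) := by
      by_contra hne
      exact hall _ d₀ hd₀ _ (S.conj_mem d₀ hd₀ g) hne rfl
    rw [S.conj_M d₀ hd₀ g] at h1
    exact (S.self_norm d₀ hd₀).le (mem_normalizer_of_map_conj_eq h1.symm)
  obtain ⟨d, hd, e, he, hne, hn⟩ := Nat.find_spec hex
  have hmin : ∀ a ∈ S.K, ∀ b ∈ S.K, S.M a ≠ S.M b → orderOf (d * e) ≤ orderOf (a * b) :=
    fun a ha b hb hab => hn ▸ Nat.find_min' hex ⟨a, ha, b, hb, hab, rfl⟩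
  have hpos : 0 < orderOf (d * e) := orderOf_pos _
  have heven : 2 ∣ orderOf (d * e) := by
    by_contra hodd
    have ho : Odd (orderOf (d * e)) := Nat.odd_iff.mpr (by omega)
    have hx : d * e ∈ invSet d := ⟨ho, by
      rw [mul_inv_rev, hinv d hd, hinv e he, ← mul_assoc d d e, hsq d hd, one_mul]⟩
    obtain ⟨k, hk⟩ := ho
    set y := (d * e) ^ (k + 1) with hy
    have hy2 : y * y = d * e := by
      rw [hy, ← pow_add, show k + 1 + (k + 1) = orderOf (d * e) + 1 by omega, pow_add,
        pow_orderOf_eq_one, one_mul, pow_one]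
    have hdy : d * y * d⁻¹ = y⁻¹ := by
      rw [hy, ← inv_pow, ← hx.2, conj_pow]
    have hey : e = y⁻¹ * d * y⁻¹⁻¹ := by
      rw [inv_inv]
      calc e = d * (d * e) := by rw [← mul_assoc, hsq d hd, one_mul]
        _ = d * y * y := by rw [← hy2]; group
        _ = (d * y * d⁻¹) * d * y := by group
        _ = y⁻¹ * d * y := by rw [hdy]
    refine hne ?_
    conv_rhs => rw [hey, S.conj_M d hd]
    refine (map_conj_eq_of_mem_normalizer (Subgroup.le_normalizer (inv_mem ?_))).symm
    exact pow_mem (S.inv_le d hd hx) _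
  have hlt : ∀ z : G, orderOf z = orderOf (d * e) → orderOf (z ^ 2) < orderOf (d * e) := by
    intro z hz
    rw [orderOf_pow' z two_ne_zero, hz, Nat.gcd_eq_right heven]
    omega
  refine ⟨d, hd, e, he, hne, ?_, ?_⟩
  · by_contra hde
    have hne' : S.M e ≠ S.M (d * e * d⁻¹) := by
      rw [S.conj_M e he]
      exact fun h => hde ((S.self_norm e he).le (mem_normalizer_of_map_conj_eq h.symm))
    have h1 := hmin e he _ (S.conj_mem e he d) hne'
    have h2 : e * (d * e * d⁻¹) = (e * d) ^ 2 := by rw [hinv d hd, pow_two]; group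
    rw [h2] at h1
    have h3 : orderOf (e * d) = orderOf (d * e) := by
      rw [← orderOf_inv (d * e), mul_inv_rev, hinv d hd, hinv e he]
    exact absurd (hlt _ h3) (not_lt.mpr h1)
  · by_contra hed
    have hne' : S.M d ≠ S.M (e * d * e⁻¹) := by
      rw [S.conj_M d hd]
      exact fun h => hed ((S.self_norm d hd).le (mem_normalizer_of_map_conj_eq h.symm))
    have h1 := hmin d hd _ (S.conj_mem d hd e) hne'
    have h2 : d * (e * d * e⁻¹) = (d * e) ^ 2 := by rw [hinv e he, pow_two]; group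
    rw [h2] at h1
    exact absurd (hlt _ rfl) (not_lt.mpr h1)

/-- The consequences for one side of a mutual pair. -/
theorem side (hL : LiftStmt.{u}) (hC : CoverStmt.{u}) (S : Sys G) {d e : G} (hd : d ∈ S.K)
    (he : e ∈ S.K) (hed : e ∈ S.M d) (hcore : pCoreOf 2 (S.M d) = ⊥) :
    (fittingSubgroup ↥(S.M d) = ⊥ →
      (layer ↥(S.M d ⊓ S.M e : Subgroup G)).map (S.M d ⊓ S.M e).subtype =
        (layer ↥(S.M d)).map (S.M d).subtype) ∧
    ∀ l : ℕ, l.Prime → l ≠ 2 → pCoreOf l (S.M d ⊓ S.M e) = pCoreOf l (S.M d) := by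
  have hlt : Nat.card ↥(S.M d) < Nat.card G := by
    refine lt_of_le_of_ne (Subgroup.card_le_card_group _) fun h => (S.coatom d hd).1 ?_
    exact (S.M d).eq_top_of_card_eq h
  have hA : SubT ↥(S.M d) := S.smaller _ hlt
  have hA' : ∀ (P : Subgroup ↥(S.M d)) [P.Normal], SubT (↥(S.M d) ⧸ P) := fun P _ =>
    S.smaller _ (lt_of_le_of_lt
      (Nat.card_le_card_of_surjective _ (QuotientGroup.mk'_surjective P)) hlt)
  set A := S.M d with hAdef
  set V := (A ⊓ S.M e).subgroupOf A with hVdef
  have h2 : pCore 2 ↥A = ⊥ :=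
    (Subgroup.map_eq_bot_iff_of_injective _ Subtype.coe_injective).mp hcore
  set e' : ↥A := ⟨e, hed⟩
  have hoe : orderOf e' = 2 := (Subgroup.orderOf_mk e hed).trans (S.invol e he)
  have hmem : ∀ x : ↥A, (x : G) ∈ S.M e → x ∈ V := fun x hx => ⟨x.2, hx⟩
  have hinvV : invSet e' ⊆ V := fun x hx => hmem x (S.inv_le e he
    ⟨by rw [Subgroup.orderOf_coe]; exact hx.1, congrArg Subtype.val hx.2⟩)
  have hcV : Subgroup.centralizer ({e'} : Set ↥A) ≤ V := fun x hx => hmem x (S.cent_le e he
    (Subgroup.mem_centralizer_singleton_iff.mpr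
      (congrArg Subtype.val (Subgroup.mem_centralizer_singleton_iff.mp hx))))
  have hFV : generalizedFittingSubgroup ↥A ≤ V := by
    refine (hC hA e' ?_).trans (sup_le (h2.le.trans bot_le) ((Subgroup.closure_le _).mpr
      (Set.union_subset hinvV hcV)))
    have := pow_orderOf_eq_one e'
    rwa [hoe, pow_two] at this
  refine ⟨fun hF => ?_, fun l hl hl2 => ?_⟩
  · have h := layer_eq_of_le hF V (layer_le_fStar.trans hFV)
    rw [← h, map_subgroupOf_aux (inf_le_left : A ⊓ S.M e ≤ A), layer_map_equiv]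
  · haveI := Fact.mk hl
    have h := pCore_eq_of_le hL hC hA hA' e' hoe V hinvV hcV hFV l hl2
    unfold pCoreOf
    rw [← h, map_subgroupOf_aux (inf_le_left : A ⊓ S.M e ≤ A), pCore_map_equiv]

/-- The maximal subgroups of a minimal counterexample have nontrivial 2-core. -/
theorem coreNe (hL : LiftStmt.{u}) (hC : CoverStmt.{u}) : CoreNeStmt.{u} := by
  intro G _ _ S a ha hcore
  obtain ⟨d, hd, e, he, hne, hde, hed⟩ := exists_mutual S
  have h2 : ∀ x ∈ S.K, pCoreOf 2 (S.M x) = ⊥ := by
    intro x hx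
    obtain ⟨g, rfl⟩ := S.trans a ha x hx
    rw [S.conj_M a ha g]
    exact pCoreOf_map_conj_eq_bot 2 g hcore
  obtain ⟨sd, sd'⟩ := side hL hC S hd he hed (h2 d hd)
  obtain ⟨se, se'⟩ := side hL hC S he hd hde (h2 e he)
  rw [inf_comm (S.M e) (S.M d)] at se se'
  have hkill : ∀ R : Subgroup G, R ≤ S.M d → S.M d ≤ Subgroup.normalizer (R : Set G) →
      S.M e ≤ Subgroup.normalizer (R : Set G) → R = ⊥ := by
    intro R hR h1 h2'
    refine S.core d hd R (Subgroup.normalizer_eq_top_iff.mp (top_unique ?_)) hR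
    rcases (S.coatom d hd).le_iff.mp (le_sup_left : S.M d ≤ S.M d ⊔ S.M e) with h | h
    · exact h ▸ sup_le h1 h2'
    · have hle : S.M e ≤ S.M d := le_sup_right.trans h.le
      rcases (S.coatom e he).le_iff.mp hle with h' | h'
      · exact absurd h' (S.coatom d hd).1
      · exact absurd h' hne
  by_cases hF : fittingSubgroup ↥(S.M d) = ⊥
  · have hF' : fittingSubgroup ↥(S.M e) = ⊥ := by
      obtain ⟨g, rfl⟩ := S.trans d hd e he
      rw [S.conj_M d hd g]
      exact fitting_map_conj_eq_bot g hF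
    have heq := (se hF').symm.trans (sd hF)
    have hR := hkill ((layer ↥(S.M d)).map (S.M d).subtype) (Subgroup.map_subtype_le _)
      (Subgroup.le_normalizer.trans (le_normalizer_map_subtype _))
      (heq ▸ Subgroup.le_normalizer.trans (le_normalizer_map_subtype _))
    rw [Subgroup.map_eq_bot_iff_of_injective _ Subtype.coe_injective] at hR
    have hC0 := centralizer_fStar_le (G := ↥(S.M d))
    rw [generalizedFittingSubgroup, hR, hF, bot_sup_eq] at hC0
    have hd1 : (⟨d, S.mem d hd⟩ : ↥(S.M d)) = 1 :=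
      Subgroup.mem_bot.mp (hC0 (Subgroup.mem_centralizer_iff.mpr fun x hx => by
        rw [Subgroup.mem_bot.mp hx, one_mul, mul_one]))
    have := S.invol d hd
    rw [show d = 1 from congrArg Subtype.val hd1, orderOf_one] at this
    exact absurd this (by norm_num)
  · rw [fitting_eq_iSup_pCore, iSup_eq_bot] at hF
    push Not at hF
    obtain ⟨⟨l, hl⟩, hl0⟩ := hF
    haveI := Fact.mk hl
    have hl2 : l ≠ 2 := by
      rintro rfl
      exact hl0 ((Subgroup.map_eq_bot_iff_of_injective _ Subtype.coe_injective).mp (h2 d hd))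
    have heq := (se' l hl hl2).symm.trans (sd' l hl hl2)
    refine hl0 ((Subgroup.map_eq_bot_iff_of_injective _ Subtype.coe_injective).mp
      (hkill (pCoreOf l (S.M d)) (Subgroup.map_subtype_le _)
        (Subgroup.le_normalizer.trans (le_normalizer_map_subtype _)) ?_))
    rw [← heq]
    exact Subgroup.le_normalizer.trans (le_normalizer_map_subtype _)

end Main

end H63.InvSub
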